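import Groth.Agent.H44.OmegaRestrict
import Groth.Agent.H12.QCohIso
import Groth.Agent.H18.SectionHom
import Groth.Prelude.Def_BlowUp2
import Groth.Prelude.Def_Pic

/-!
helper71: the ideal module `ClSub.idealMod K` is invertible iff `K` is locally generated by a
nonzerodivisor on affine opens.
-/

set_option autoImplicit false
universe u
open CategoryTheory CategoryTheory.Limits AlgebraicGeometry TopologicalSpace Opposite

namespace Groth.Agent.H71.IdealInv

variable {P : Scheme.{u}} (K : P.IdealSheafData)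

theorem idealSect_injective (W : P.Opens) : Function.Injective (OmegaSh.idealSect K W) := by
  intro a b h
  exact OmegaSh.idealModι_app_injective W K h

theorem idealSect_smul {W : P.Opens} (r : Γ(P, W)) (σ : Γ(ClSub.idealMod K, W)) :
    OmegaSh.idealSect K W (r • σ) = r * OmegaSh.idealSect K W σ := by
  rw [OmegaSh.idealSect_apply, OmegaSh.idealSect_apply, Scheme.Modules.Hom.app_smul]
  rfl

theorem idealSect_mem {W : P.Opens} (hW : IsAffineOpen W) (σ : Γ(ClSub.idealMod K, W)) :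
    OmegaSh.idealSect K W σ ∈ K.ideal ⟨W, hW⟩ :=
  Groth.Agent.H44.idealModι_app_mem_ideal K hW σ

theorem exists_idealSect_eq {W : P.Opens} (hW : IsAffineOpen W) (y : Γ(P, W))
    (hy : y ∈ K.ideal ⟨W, hW⟩) : ∃ σ : Γ(ClSub.idealMod K, W), OmegaSh.idealSect K W σ = y := by
  have h0 := (Groth.Agent.H44.toSubscheme_app_eq_zero_iff K hW y).2 hy
  refine ⟨OmegaSh.kerLift (ClSub.toSubscheme K) W (OmegaSh.strSect P W y) h0, ?_⟩
  rw [OmegaSh.idealSect_apply]
  have := OmegaSh.ι_kerLift (ClSub.toSubscheme K) W (OmegaSh.strSect P W y) h0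
  change OmegaSh.fnSect P W ((kernel.ι (ClSub.toSubscheme K)).app W _) = y
  rw [this]
  rfl

/-- on an affine open `W`, a section `σ` of the ideal module freely generates it over `W` iff its
underlying function is a nonzerodivisor generating the ideal. -/
theorem smul_bijective_iff {W : P.Opens} (hW : IsAffineOpen W) (σ : Γ(ClSub.idealMod K, W)) :
    Function.Bijective (fun r : Γ(P, W) => r • σ) ↔
      (OmegaSh.idealSect K W σ ∈ nonZeroDivisors Γ(P, W) ∧
        K.ideal ⟨W, hW⟩ = Ideal.span {OmegaSh.idealSect K W σ}) := by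
  constructor
  · rintro ⟨hi, hs⟩
    constructor
    · rw [mem_nonZeroDivisors_iff_right]
      intro r hr
      apply hi
      apply idealSect_injective K W
      change OmegaSh.idealSect K W (r • σ) = OmegaSh.idealSect K W ((0 : Γ(P, W)) • σ)
      rw [idealSect_smul, idealSect_smul, hr, zero_mul]
    · apply le_antisymm
      · intro y hy
        obtain ⟨x, hx⟩ := exists_idealSect_eq K hW y hy
        obtain ⟨r, hr⟩ := hs x
        rw [Ideal.mem_span_singleton']
        refine ⟨r, ?_⟩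
        rw [← hx, ← hr]
        exact (idealSect_smul K r σ).symm
      · rw [Ideal.span_le]
        rintro _ rfl
        exact idealSect_mem K hW σ
  · rintro ⟨hf, hspan⟩
    constructor
    · intro r r' h
      have h' : OmegaSh.idealSect K W (r • σ) = OmegaSh.idealSect K W (r' • σ) :=
        congrArg (OmegaSh.idealSect K W) h
      rw [idealSect_smul, idealSect_smul] at h'
      exact (mul_cancel_right_mem_nonZeroDivisors hf).1 h'
    · intro x
      have hx := idealSect_mem K hW x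
      rw [hspan, Ideal.mem_span_singleton'] at hx
      obtain ⟨r, hr⟩ := hx
      refine ⟨r, ?_⟩
      apply idealSect_injective K W
      change OmegaSh.idealSect K W (r • σ) = _
      rw [idealSect_smul, hr]

theorem exists_generator_of_eq {W U : P.Opens} (h : W = U) (hU : IsAffineOpen U)
    (hW : IsAffineOpen W)
    (hg : ∃ f : Γ(P, U), f ∈ nonZeroDivisors Γ(P, U) ∧ K.ideal ⟨U, hU⟩ = Ideal.span {f}) :
    ∃ f : Γ(P, W), f ∈ nonZeroDivisors Γ(P, W) ∧ K.ideal ⟨W, hW⟩ = Ideal.span {f} := by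
  subst h
  exact hg

/-- if `K` is generated on the affine open `U` by a nonzerodivisor, then the ideal module is
trivial on `U`. -/
theorem nonempty_restrict_iso_of_generator {U : P.Opens} (hU : IsAffineOpen U)
    (hg : ∃ f : Γ(P, U), f ∈ nonZeroDivisors Γ(P, U) ∧ K.ideal ⟨U, hU⟩ = Ideal.span {f}) :
    Nonempty ((ClSub.idealMod K).restrict U.ι ≅ Coh.structureModule (↑U : Scheme.{u})) := by
  have htop : U.ι ''ᵁ ⊤ = U := U.ι_image_top
  have hW : IsAffineOpen (U.ι ''ᵁ ⊤) := by rw [htop]; exact hU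
  obtain ⟨f, hf, hspan⟩ := exists_generator_of_eq K htop hU hW hg
  obtain ⟨σ, hσ⟩ := exists_idealSect_eq K hW f (by rw [hspan]; exact Ideal.mem_span_singleton_self f)
  have hb : Function.Bijective (fun r : Γ(P, U.ι ''ᵁ ⊤) => r • σ) := by
    rw [smul_bijective_iff K hW σ, hσ]
    exact ⟨hf, hspan⟩
  haveI hUa : IsAffine (↑U : Scheme.{u}) := hU
  let M : (↑U : Scheme.{u}).Modules := (ClSub.idealMod K).restrict U.ι
  let σ' : Γ(M, (⊤ : (↑U : Scheme.{u}).Opens)) := σ
  haveI hM : M.IsQuasicoherent :=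
    Scheme.Modules.isQuasicoherent_restrictFunctor U.ι (ClSub.idealMod K)
  haveI : IsIso (Groth.Agent.H18.sectionHom M σ') := by
    refine Groth.Agent.H12.QCohIso.isIso_of_bijective_on_cover _
      (fun _ : Unit => (⊤ : (↑U : Scheme.{u}).Opens)) (fun _ => ⟨(), trivial⟩)
      (fun _ => isAffineOpen_top _) ?_
    intro _
    have h1 : ⇑(ConcreteCategory.hom ((Groth.Agent.H18.sectionHom M σ').app ⊤)) =
        (fun r : Γ((↑U : Scheme.{u}), ⊤) => r • (Groth.Agent.H18.mres M (le_top : (⊤ : (↑U : Scheme.{u}).Opens) ≤ ⊤) σ' : Γ(M, ⊤))) :=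
      funext (fun r => Groth.Agent.H18.sectionHom_app M σ' ⊤ r)
    have h2 : (Groth.Agent.H18.mres M (le_top : (⊤ : (↑U : Scheme.{u}).Opens) ≤ ⊤) σ' : Γ(M, ⊤)) = σ' := by
      have : (Groth.Agent.H18.mres M (le_top : (⊤ : (↑U : Scheme.{u}).Opens) ≤ ⊤) σ' : Γ(M, ⊤)) =
          M.presheaf.map (𝟙 (op (⊤ : (↑U : Scheme.{u}).Opens))) σ' := rfl
      rw [this, M.presheaf.map_id]
      rfl
    change Function.Bijective ⇑(ConcreteCategory.hom ((Groth.Agent.H18.sectionHom M σ').app ⊤))
    rw [h1, h2]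
    exact hb.comp (ConcreteCategory.bijective_of_isIso (U.ι.appIso ⊤).inv)
  exact ⟨(asIso (Groth.Agent.H18.sectionHom M σ')).symm⟩

/-- if the ideal module is trivial on the open `U₀`, then near each point of `U₀` the ideal is
generated on an affine open by a nonzerodivisor. -/
theorem exists_generator_of_restrict_iso {U₀ : P.Opens}
    (e : (ClSub.idealMod K).restrict U₀.ι ≅ Coh.structureModule (↑U₀ : Scheme.{u}))
    (y : P) (hy : y ∈ U₀) :
    ∃ W : P.affineOpens, y ∈ W.1 ∧
      ∃ f : Γ(P, W.1), f ∈ nonZeroDivisors Γ(P, W.1) ∧ K.ideal W = Ideal.span {f} := by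
  let y' : (↑U₀ : Scheme.{u}) := ⟨y, hy⟩
  obtain ⟨W', hW', hyW', -⟩ := exists_isAffineOpen_mem_and_subset
    (x := y') (U := (⊤ : (↑U₀ : Scheme.{u}).Opens)) trivial
  have hW₁ : IsAffineOpen (U₀.ι ''ᵁ W') := hW'.image_of_isOpenImmersion U₀.ι
  have hyW₁ : y ∈ U₀.ι ''ᵁ W' := ⟨y', hyW', rfl⟩
  let M : (↑U₀ : Scheme.{u}).Modules := (ClSub.idealMod K).restrict U₀.ι
  let σ' : Γ(M, W') := e.inv.app W' (OmegaSh.strSect (↑U₀ : Scheme.{u}) W' 1)
  let σ : Γ(ClSub.idealMod K, U₀.ι ''ᵁ W') := σ'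
  have hb' : Function.Bijective (fun r' : Γ((↑U₀ : Scheme.{u}), W') => r' • σ') := by
    have h1 : (fun r' : Γ((↑U₀ : Scheme.{u}), W') => r' • σ') =
        ⇑(ConcreteCategory.hom (e.inv.app W')) ∘ ⇑(OmegaSh.strSect (↑U₀ : Scheme.{u}) W') := by
      funext r'
      change r' • e.inv.app W' (OmegaSh.strSect (↑U₀ : Scheme.{u}) W' 1) =
        e.inv.app W' (OmegaSh.strSect (↑U₀ : Scheme.{u}) W' r')
      rw [← Scheme.Modules.Hom.app_smul, ← OmegaSh.strSect_mul, mul_one]
    rw [h1]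
    haveI : IsIso (e.inv.app W') := by
      exact (Scheme.Modules.Hom.isIso_iff_isIso_app (φ := e.inv)).1 inferInstance W'
    exact (ConcreteCategory.bijective_of_isIso (e.inv.app W')).comp
      ⟨fun a b h => h, fun a => ⟨a, rfl⟩⟩
  have hb : Function.Bijective (fun r : Γ(P, U₀.ι ''ᵁ W') => r • σ) := by
    have h2 : (fun r' : Γ((↑U₀ : Scheme.{u}), W') => r' • σ') =
        (fun r : Γ(P, U₀.ι ''ᵁ W') => r • σ) ∘ ⇑(ConcreteCategory.hom (U₀.ι.appIso W').inv) := rfl
    rw [h2] at hb'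
    exact (Function.Bijective.of_comp_iff _
      (ConcreteCategory.bijective_of_isIso (U₀.ι.appIso W').inv)).1 hb'
  obtain ⟨hf, hspan⟩ := (smul_bijective_iff K hW₁ σ).1 hb
  exact ⟨⟨U₀.ι ''ᵁ W', hW₁⟩, hyW₁, OmegaSh.idealSect K _ σ, hf, hspan⟩

theorem isInvertible_idealMod_iff :
    PicF.IsInvertible (ClSub.idealMod K) ↔ BlowUp.IsEffCartierIdeal K := by
  constructor
  · intro h y
    obtain ⟨U₀, hy, ⟨e⟩⟩ := h y
    exact exists_generator_of_restrict_iso K e y hy
  · intro h y
    obtain ⟨U, hyU, hg⟩ := h y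
    exact ⟨U.1, hyU, nonempty_restrict_iso_of_generator K U.2 hg⟩

end Groth.Agent.H71.IdealInv
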