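import Mathlib.RingTheory.IsTensorProduct

/-!
helper71: an abstract bijectivity criterion for maps between base changes along a pushout square
of rings.
-/

set_option autoImplicit false
universe u
open TensorProduct

namespace Groth.Agent.H71.BaseChange

section Alg

variable (R R' S S' : Type u) [CommRing R] [CommRing R'] [CommRing S] [CommRing S']
  [Algebra R R'] [Algebra R S] [Algebra R' S'] [Algebra S S'] [Algebra R S']
  [IsScalarTower R R' S'] [IsScalarTower R S S'] [Algebra.IsPushout R R' S S']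
  (M : Type u) [AddCommGroup M] [Module S M] [Module R M] [IsScalarTower R S M]

/-- `R' ⊗[R] M ≃ S' ⊗[S] M`, `b ⊗ m ↦ b ⊗ m`. -/
noncomputable def tensorEquiv : R' ⊗[R] M ≃+ S' ⊗[S] M :=
  (Algebra.IsPushout.cancelBaseChange R R' S S' M).symm.toAddEquiv

theorem tensorEquiv_tmul (b : R') (m : M) :
    tensorEquiv R R' S S' M (b ⊗ₜ m) = algebraMap R' S' b ⊗ₜ m :=
  Algebra.IsPushout.cancelBaseChange_symm_tmul R R' S S' M b m

variable {R R' S S' M}

theorem bijective_of_tensor {A B : Type u} [AddCommGroup A] [AddCommGroup B] (c : A →+ B)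
    (E₁ : A ≃+ R' ⊗[R] M) (E₂ : B ≃+ S' ⊗[S] M)
    (h : ∀ (b : R') (m : M), E₂ (c (E₁.symm (b ⊗ₜ m))) = algebraMap R' S' b ⊗ₜ m) :
    Function.Bijective c := by
  have key : ∀ y : R' ⊗[R] M, E₂ (c (E₁.symm y)) = tensorEquiv R R' S S' M y := by
    intro y
    induction y with
    | zero => simp
    | tmul b m => rw [h, tensorEquiv_tmul]
    | add y z hy hz => rw [map_add, map_add, map_add, map_add, hy, hz]
  have hc : ⇑c = ⇑E₂.symm ∘ ⇑(tensorEquiv R R' S S' M) ∘ ⇑E₁ := by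
    funext a
    have := key (E₁ a)
    rw [AddEquiv.symm_apply_apply] at this
    simp only [Function.comp_apply]
    rw [← this, AddEquiv.symm_apply_apply]
  rw [hc]
  exact E₂.symm.bijective.comp ((tensorEquiv R R' S S' M).bijective.comp E₁.bijective)

theorem bijective_of_tensor' {A B M₁ : Type u} [AddCommGroup A] [AddCommGroup B]
    [AddCommGroup M₁] [Module R M₁] (ι : M₁ ≃ₗ[R] M) (c : A →+ B)
    (E₁ : A ≃+ R' ⊗[R] M₁) (E₂ : B ≃+ S' ⊗[S] M)
    (h : ∀ (b : R') (m₁ : M₁), E₂ (c (E₁.symm (b ⊗ₜ m₁))) = algebraMap R' S' b ⊗ₜ ι m₁) :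
    Function.Bijective c := by
  refine bijective_of_tensor c (E₁.trans (LinearEquiv.lTensor R' ι).toAddEquiv) E₂ ?_
  intro b m
  have h1 : (E₁.trans (LinearEquiv.lTensor R' ι).toAddEquiv).symm (b ⊗ₜ m) =
      E₁.symm (b ⊗ₜ ι.symm m) := by
    change E₁.symm ((LinearEquiv.lTensor R' ι).symm (b ⊗ₜ m)) = _
    rw [LinearEquiv.symm_lTensor, LinearEquiv.lTensor_tmul]
  rw [h1, h, LinearEquiv.apply_symm_apply]

theorem bijective_of_tensor'' {A B M₁ : Type u} [AddCommGroup A] [AddCommGroup B]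
    [Module R' A] [Module S' B]
    [AddCommGroup M₁] [Module R M₁] (ι : M₁ ≃ₗ[R] M) (c : A →+ B)
    (E₁ : A ≃ₗ[R'] R' ⊗[R] M₁) (E₂ : B ≃ₗ[S'] S' ⊗[S] M)
    (h : ∀ (b : R') (m₁ : M₁), E₂ (c (E₁.symm (b ⊗ₜ m₁))) = algebraMap R' S' b ⊗ₜ ι m₁) :
    Function.Bijective c :=
  bijective_of_tensor' ι c E₁.toAddEquiv E₂.toAddEquiv h

end Alg

end Groth.Agent.H71.BaseChange
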