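import Groth.Agent.H71.BaseChange
import Groth.Agent.H71.BaseChangeAlg
import Mathlib.AlgebraicGeometry.Morphisms.Flat

/-!
helper71: affine base change: for a pullback square with `f` affine and `M` quasi-coherent, the base
change map `g^* f_* M ⟶ f'_* g'^* M` is an isomorphism.
-/

set_option autoImplicit false
universe u
open CategoryTheory AlgebraicGeometry Scheme.Modules Opposite TopologicalSpace TensorProduct

namespace Groth.Agent.H71.BaseChange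

variable {X S X' S' : Scheme.{u}} {f : X ⟶ S} {g : S' ⟶ S} {g' : X' ⟶ X} {f' : X' ⟶ S'}

theorem isPushout_sections (h : IsPullback g' f' f g)
    {V : S.Opens} {V' : S'.Opens} (hV : IsAffineOpen V) (hV' : IsAffineOpen V')
    (e₁ : V' ≤ g ⁻¹ᵁ V) (hU : IsAffineOpen (f ⁻¹ᵁ V))
    (e₂ : f' ⁻¹ᵁ V' ≤ g' ⁻¹ᵁ (f ⁻¹ᵁ V)) :
    IsPushout (g.appLE V V' e₁) (f.appLE V (f ⁻¹ᵁ V) le_rfl)
      (f'.appLE V' (f' ⁻¹ᵁ V') le_rfl) (g'.appLE (f ⁻¹ᵁ V) (f' ⁻¹ᵁ V') e₂) := by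
  have hUY : f' ⁻¹ᵁ V' = g' ⁻¹ᵁ (f ⁻¹ᵁ V) ⊓ f' ⁻¹ᵁ V' := by
    apply le_antisymm
    · exact le_inf e₂ le_rfl
    · exact inf_le_right
  have h1 := isIso_pushoutSection_of_isAffineOpen h e₁ (le_refl (f ⁻¹ᵁ V)) hUY hV hV' hU
  exact ((isIso_pushoutSection_iff h e₁ (le_refl (f ⁻¹ᵁ V)) hUY).mp h1).flip

/-- the module structure of `Γ(f_* M, V)` put on `Γ(M, f⁻¹ V)`. -/
noncomputable abbrev pushModule (f : X ⟶ S) (M : X.Modules) (V : S.Opens) :
    Module Γ(S, V) Γ(M, f ⁻¹ᵁ V) :=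
  inferInstanceAs (Module Γ(S, V) Γ((pushforward f).obj M, V))

set_option maxHeartbeats 1600000 in
theorem bc_app_bijective (h : IsPullback g' f' f g) (M : X.Modules) [M.IsQuasicoherent]
    [((pushforward f).obj M).IsQuasicoherent]
    {V : S.Opens} {V' : S'.Opens} (hV : IsAffineOpen V) (hV' : IsAffineOpen V')
    (e₁ : V' ≤ g ⁻¹ᵁ V) (hU : IsAffineOpen (f ⁻¹ᵁ V)) (hU' : IsAffineOpen (f' ⁻¹ᵁ V')) :
    Function.Bijective ((bc f g g' f' h.w M).app V') := by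
  have e₂ : f' ⁻¹ᵁ V' ≤ g' ⁻¹ᵁ (f ⁻¹ᵁ V) :=
    (f'.preimage_mono e₁).trans (preimage_le f g g' f' h.w V)
  letI a1 : Algebra Γ(S, V) Γ(S', V') := (g.appLE V V' e₁).hom.toAlgebra
  letI a2 : Algebra Γ(S, V) Γ(X, f ⁻¹ᵁ V) := (f.appLE V (f ⁻¹ᵁ V) le_rfl).hom.toAlgebra
  letI a3 : Algebra Γ(S', V') Γ(X', f' ⁻¹ᵁ V') := (f'.appLE V' (f' ⁻¹ᵁ V') le_rfl).hom.toAlgebra
  letI a4 : Algebra Γ(X, f ⁻¹ᵁ V) Γ(X', f' ⁻¹ᵁ V') :=
    (g'.appLE (f ⁻¹ᵁ V) (f' ⁻¹ᵁ V') e₂).hom.toAlgebra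
  letI a5 : Algebra Γ(S, V) Γ(X', f' ⁻¹ᵁ V') :=
    (g.appLE V V' e₁ ≫ f'.appLE V' (f' ⁻¹ᵁ V') le_rfl).hom.toAlgebra
  haveI t1 : IsScalarTower Γ(S, V) Γ(S', V') Γ(X', f' ⁻¹ᵁ V') :=
    IsScalarTower.of_algebraMap_eq' rfl
  have hsq : g.appLE V V' e₁ ≫ f'.appLE V' (f' ⁻¹ᵁ V') le_rfl =
      f.appLE V (f ⁻¹ᵁ V) le_rfl ≫ g'.appLE (f ⁻¹ᵁ V) (f' ⁻¹ᵁ V') e₂ :=
    (isPushout_sections h hV hV' e₁ hU e₂).w
  haveI t2 : IsScalarTower Γ(S, V) Γ(X, f ⁻¹ᵁ V) Γ(X', f' ⁻¹ᵁ V') :=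
    IsScalarTower.of_algebraMap_eq' (congrArg (fun k => k.hom) hsq)
  haveI po : Algebra.IsPushout Γ(S, V) Γ(S', V') Γ(X, f ⁻¹ᵁ V) Γ(X', f' ⁻¹ᵁ V') :=
    CommRingCat.isPushout_iff_isPushout.mp (isPushout_sections h hV hV' e₁ hU e₂)
  -- the module
  letI mR : Module Γ(S, V) Γ(M, f ⁻¹ᵁ V) := pushModule f M V
  haveI t3 : IsScalarTower Γ(S, V) Γ(X, f ⁻¹ᵁ V) Γ(M, f ⁻¹ᵁ V) := by
    constructor
    intro r s m
    change ((f.appLE V (f ⁻¹ᵁ V) le_rfl).hom r * s) • m = (f.app V).hom r • (s • m)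
    rw [mul_smul, Scheme.Hom.appLE_eq_app]
  let E₁ := Groth.Agent.H44.pullbackSectionsEquiv g ((pushforward f).obj M) hV' hV e₁
  let E₂ := Groth.Agent.H44.pullbackSectionsEquiv g' M hU' hU e₂
  let c : Γ((Scheme.Modules.pullback g).obj ((pushforward f).obj M), V') →+
      Γ((Scheme.Modules.pullback g').obj M, f' ⁻¹ᵁ V') :=
    ((bc f g g' f' h.w M).app V').hom
  let ι : Γ((pushforward f).obj M, V) ≃ₗ[Γ(S, V)] Γ(M, f ⁻¹ᵁ V) :=
    { toFun := fun x => x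
      map_add' := fun _ _ => rfl
      map_smul' := fun _ _ => rfl
      invFun := fun x => x
      left_inv := fun _ => rfl
      right_inv := fun _ => rfl }
  have hbij : Function.Bijective c := by
    refine bijective_of_tensor'' (R := Γ(S, V)) (R' := Γ(S', V')) (S := Γ(X, f ⁻¹ᵁ V))
      (S' := Γ(X', f' ⁻¹ᵁ V')) (M := Γ(M, f ⁻¹ᵁ V)) ι c E₁ E₂ ?_
    intro b m'
    have h0 : E₁.symm ((1 : Γ(S', V')) ⊗ₜ[Γ(S, V)] m') =
        Groth.Agent.H44.pullSectLE g ((pushforward f).obj M) V V' e₁ m' := by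
      rw [LinearEquiv.symm_apply_eq]
      exact (Groth.Agent.H44.pullbackSectionsEquiv_pullSectLE g ((pushforward f).obj M)
        hV' hV e₁ m').symm
    have h1 : E₁.symm (b ⊗ₜ[Γ(S, V)] m') =
        b • Groth.Agent.H44.pullSectLE g ((pushforward f).obj M) V V' e₁ m' := by
      have : b ⊗ₜ[Γ(S, V)] m' = b • ((1 : Γ(S', V')) ⊗ₜ[Γ(S, V)] m') := by
        rw [TensorProduct.smul_tmul', smul_eq_mul, mul_one]
      rw [this, _root_.map_smul, h0]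
    have h3 : (bc f g g' f' h.w M).app V'
        (Groth.Agent.H44.pullSectLE g ((pushforward f).obj M) V V' e₁ m') =
        Groth.Agent.H44.pullSectLE g' M (f ⁻¹ᵁ V) (f' ⁻¹ᵁ V') e₂ (ι m') := by
      unfold Groth.Agent.H44.pullSectLE
      rw [Groth.Agent.H44.hom_app_resLE, bc_app_pullSect]
      exact Groth.Agent.H44.resM_comp _ _ _
    have h2 : c (b • Groth.Agent.H44.pullSectLE g ((pushforward f).obj M) V V' e₁ m') =
        (f'.app V').hom b •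
          Groth.Agent.H44.pullSectLE g' M (f ⁻¹ᵁ V) (f' ⁻¹ᵁ V') e₂ (ι m') := by
      change (bc f g g' f' h.w M).app V' (b • _) = _
      rw [Scheme.Modules.Hom.app_smul, h3]
      rfl
    have h4 : E₂ ((f'.app V').hom b •
        Groth.Agent.H44.pullSectLE g' M (f ⁻¹ᵁ V) (f' ⁻¹ᵁ V') e₂ (ι m')) =
        ((f'.appLE V' (f' ⁻¹ᵁ V') le_rfl).hom b) ⊗ₜ[Γ(X, f ⁻¹ᵁ V)] (ι m') := by
      rw [_root_.map_smul, Groth.Agent.H44.pullbackSectionsEquiv_pullSectLE,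
        TensorProduct.smul_tmul', smul_eq_mul, mul_one, Scheme.Hom.appLE_eq_app]
    rw [h1, h2, h4]
    rfl
  exact hbij

/-- **Affine base change**: for a pullback square with `f` affine and `M` quasi-coherent, the base
change map `g^* f_* M ⟶ f'_* g'^* M` is an isomorphism. -/
theorem isIso_bc_of_isAffineHom (h : IsPullback g' f' f g) [IsAffineHom f] (M : X.Modules)
    [M.IsQuasicoherent] : IsIso (bc f g g' f' h.w M) := by
  haveI hf' : IsAffineHom f' := MorphismProperty.of_isPullback h (inferInstance : IsAffineHom f)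
  haveI hN : ((pushforward f).obj M).IsQuasicoherent :=
    Groth.Agent.H8.isQuasicoherent_pushforward_of_isAffineHom f M
  haveI hB : ((pushforward f').obj ((Scheme.Modules.pullback g').obj M)).IsQuasicoherent :=
    Groth.Agent.H8.isQuasicoherent_pushforward_of_isAffineHom f' _
  have key : ∀ x' : S', ∃ (V : S.Opens) (V' : S'.Opens), IsAffineOpen V ∧ IsAffineOpen V' ∧
      x' ∈ V' ∧ V' ≤ g ⁻¹ᵁ V := by
    intro x'
    obtain ⟨V, hV, hxV, -⟩ := exists_isAffineOpen_mem_and_subset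
      (x := g x') (U := (⊤ : S.Opens)) trivial
    obtain ⟨V', hV', hxV', hle⟩ := exists_isAffineOpen_mem_and_subset
      (x := x') (U := g ⁻¹ᵁ V) hxV
    exact ⟨V, V', hV, hV', hxV', hle⟩
  choose V V' hV hV' hx hle using key
  refine Groth.Agent.H12.QCohIso.isIso_of_bijective_on_cover _ V' (fun x' => ⟨x', hx x'⟩) hV' ?_
  intro x'
  exact bc_app_bijective h M (hV x') (hV' x') (hle x') ((hV x').preimage f) ((hV' x').preimage f')

theorem nonempty_iso_of_isAffineHom (h : IsPullback g' f' f g) [IsAffineHom f] (M : X.Modules)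
    [M.IsQuasicoherent] :
    Nonempty ((Scheme.Modules.pullback g).obj ((pushforward f).obj M) ≅
      (pushforward f').obj ((Scheme.Modules.pullback g').obj M)) := by
  haveI := isIso_bc_of_isAffineHom h M
  exact ⟨asIso (bc f g g' f' h.w M)⟩

end Groth.Agent.H71.BaseChange
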