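import Groth.Agent.H44.PullUnit
import Groth.Agent.H12.QCohIso
import Groth.Agent.H8.PushQCoh
import Groth.Agent.H44.PullbackFT

/-!
helper71: the base change map `g^* f_* M ⟶ f'_* g'^* M` of a commutative square and its value on
pulled back sections.
-/

set_option autoImplicit false
universe u
open CategoryTheory AlgebraicGeometry Scheme.Modules Opposite TopologicalSpace

namespace Groth.Agent.H71.BaseChange

variable {X S X' S' : Scheme.{u}} (f : X ⟶ S) (g : S' ⟶ S) (g' : X' ⟶ X) (f' : X' ⟶ S')
  (w : g' ≫ f = f' ≫ g)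

/-- `f_* g'_* ≅ g_* f'_*` -/
noncomputable def pushSquare :
    pushforward g' ⋙ pushforward f ≅ pushforward f' ⋙ pushforward g :=
  pushforwardComp g' f ≪≫ pushforwardCongr w ≪≫ (pushforwardComp f' g).symm

/-- `f_* M ⟶ g_* f'_* g'^* M` -/
noncomputable def bcPre (M : X.Modules) :
    (pushforward f).obj M ⟶
      (pushforward g).obj ((pushforward f').obj ((pullback g').obj M)) :=
  (pushforward f).map ((pullbackPushforwardAdjunction g').unit.app M) ≫
    (pushSquare f g g' f' w).hom.app ((pullback g').obj M)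

/-- the base change map `g^* f_* M ⟶ f'_* g'^* M` -/
noncomputable def bc (M : X.Modules) :
    (pullback g).obj ((pushforward f).obj M) ⟶ (pushforward f').obj ((pullback g').obj M) :=
  (pullback g).map (bcPre f g g' f' w M) ≫
    (pullbackPushforwardAdjunction g).counit.app ((pushforward f').obj ((pullback g').obj M))

theorem unit_bc (M : X.Modules) :
    (pullbackPushforwardAdjunction g).unit.app ((pushforward f).obj M) ≫
      (pushforward g).map (bc f g g' f' w M) = bcPre f g g' f' w M := by
  unfold bc
  rw [Functor.map_comp, ← Category.assoc]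
  have h1 := (pullbackPushforwardAdjunction g).unit.naturality (bcPre f g g' f' w M)
  simp only [Functor.id_obj, Functor.id_map, Functor.comp_obj, Functor.comp_map] at h1
  rw [← h1, Category.assoc]
  have h2 := (pullbackPushforwardAdjunction g).right_triangle_components
    ((pushforward f').obj ((pullback g').obj M))
  rw [h2, Category.comp_id]

include w in
theorem preimage_le (V : S.Opens) : f' ⁻¹ᵁ (g ⁻¹ᵁ V) ≤ g' ⁻¹ᵁ (f ⁻¹ᵁ V) := by
  intro x hx
  change f (g' x) ∈ V
  rw [← Scheme.Hom.comp_apply, w]
  exact hx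

theorem bcPre_app (M : X.Modules) (V : S.Opens) (m : Γ(M, f ⁻¹ᵁ V)) :
    (bcPre f g g' f' w M).app V m =
      ((pullback g').obj M).presheaf.map (homOfLE (preimage_le f g g' f' w V)).op
        (OmegaSh.pullSect g' M (f ⁻¹ᵁ V) m) := by
  rfl

/-- the base change map sends `g^*(m)` to `g'^*(m)`. -/
theorem bc_app_pullSect (M : X.Modules) (V : S.Opens) (m : Γ(M, f ⁻¹ᵁ V)) :
    (bc f g g' f' w M).app (g ⁻¹ᵁ V) (OmegaSh.pullSect g ((pushforward f).obj M) V m) =
      ((pullback g').obj M).presheaf.map (homOfLE (preimage_le f g g' f' w V)).op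
        (OmegaSh.pullSect g' M (f ⁻¹ᵁ V) m) := by
  rw [← bcPre_app, ← unit_bc]
  rfl

end Groth.Agent.H71.BaseChange
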