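import Groth.Prelude.Def_CAlg
import Mathlib

set_option autoImplicit false
universe u
open RingTheory.Sequence

namespace Groth.Agent.H71.DepthFlat

theorem smul_top_ne_top (A : Type u) [CommRing A] [IsLocalRing A] :
    IsLocalRing.maximalIdeal A • (⊤ : Submodule A A) ≠ ⊤ := by
  intro h
  have h1 : (1 : A) ∈ IsLocalRing.maximalIdeal A • (⊤ : Submodule A A) := by rw [h]; trivial
  have h2 : IsLocalRing.maximalIdeal A • (⊤ : Submodule A A) ≤ (IsLocalRing.maximalIdeal A : Submodule A A) := by
    rw [Submodule.smul_le]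
    intro r hr n _
    exact Ideal.mul_mem_right n _ hr
  exact (IsLocalRing.maximalIdeal.isMaximal A).ne_top ((Ideal.eq_top_iff_one _).mpr (h2 h1))

theorem two_le_depth_iff (A : Type u) [CommRing A] [IsLocalRing A] :
    2 ≤ LocCoh.depth A A ↔ ∃ a b : A, a ∈ IsLocalRing.maximalIdeal A ∧ b ∈ IsLocalRing.maximalIdeal A ∧
      IsWeaklyRegular A [a, b] := by
  classical
  unfold LocCoh.depth LocCoh.idealDepth
  rw [if_neg (smul_top_ne_top A)]
  constructor
  · intro h
    by_contra hcon
    push Not at hcon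
    have hle : (⨆ (rs : List A) (_ : IsWeaklyRegular A rs ∧ ∀ r ∈ rs, r ∈ IsLocalRing.maximalIdeal A),
        (rs.length : ℕ∞)) ≤ 1 := by
      refine iSup₂_le (fun rs hrs => ?_)
      by_contra hlen
      have hlen2 : 2 ≤ rs.length := by
        by_contra h'
        apply hlen
        have : rs.length ≤ 1 := by omega
        exact_mod_cast this
      obtain ⟨a, rs', rfl⟩ := List.exists_cons_of_length_pos (l := rs) (by omega)
      obtain ⟨b, rs'', rfl⟩ := List.exists_cons_of_length_pos (l := rs') (by simp at hlen2; omega)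
      refine hcon a b (hrs.2 a (by simp)) (hrs.2 b (by simp)) ?_
      have h3 : IsWeaklyRegular A ([a, b] ++ rs'') := hrs.1
      rw [isWeaklyRegular_append_iff] at h3
      exact h3.1
    have : (2 : ℕ∞) ≤ 1 := h.trans hle
    exact absurd this (by decide)
  · rintro ⟨a, b, ha, hb, hab⟩
    refine le_trans ?_ (le_iSup₂ (f := fun (rs : List A) (_ : IsWeaklyRegular A rs ∧ ∀ r ∈ rs, r ∈ IsLocalRing.maximalIdeal A) => (rs.length : ℕ∞)) [a, b] ⟨hab, ?_⟩)
    · simp
    · intro r hr
      simp at hr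
      rcases hr with rfl | rfl <;> assumption

theorem two_le_depth_of_flat {R R' : Type u} [CommRing R] [CommRing R'] [IsLocalRing R]
    [IsLocalRing R'] (φ : R →+* R') [IsLocalHom φ] (hφ : φ.Flat)
    (h : 2 ≤ LocCoh.depth R R) : 2 ≤ LocCoh.depth R' R' := by
  rw [two_le_depth_iff] at h ⊢
  obtain ⟨a, b, ha, hb, hab⟩ := h
  letI := φ.toAlgebra
  haveI : Module.Flat R R' := hφ
  refine ⟨φ a, φ b, ?_, ?_, ?_⟩
  · exact (IsLocalRing.mem_maximalIdeal _).mpr (fun hu => (IsLocalRing.mem_maximalIdeal _).mp ha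
      (isUnit_of_map_unit φ a hu))
  · exact (IsLocalRing.mem_maximalIdeal _).mpr (fun hu => (IsLocalRing.mem_maximalIdeal _).mp hb
      (isUnit_of_map_unit φ b hu))
  · have := IsWeaklyRegular.of_flat (S := R') hab
    exact this

end Groth.Agent.H71.DepthFlat
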