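import Mathlib.Algebra.BigOperators.Fin
import Mathlib.Data.Fintype.Powerset
import Mathlib.Algebra.BigOperators.Group.Finset.Powerset
import Mathlib.Tactic

set_option autoImplicit false
universe u v w

namespace Groth.Agent.H71

open Finset

variable {ι : Type w} {κ : Type*} {A : Type u} {G : Type v} [AddCommGroup A] [AddCommGroup G]

/-- full alternating sum over all subsets of `s` -/
def altSum (g : A → G) (s : Finset ι) (x : ι → A) : G :=
  ∑ I ∈ s.powerset, ((-1 : ℤ) ^ I.card) • g (∑ k ∈ I, x k)

theorem altSum_insert [DecidableEq ι] (g : A → G) (s : Finset ι) (i : ι) (hi : i ∉ s) (x : ι → A) :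
    altSum g (insert i s) x = altSum g s x - altSum (fun c => g (x i + c)) s x := by
  unfold altSum
  rw [Finset.sum_powerset_insert hi, sub_eq_add_neg, ← Finset.sum_neg_distrib]
  congr 1
  refine Finset.sum_congr rfl ?_
  intro I hI
  have hiI : i ∉ I := fun h => hi (Finset.mem_powerset.1 hI h)
  rw [Finset.card_insert_of_notMem hiI, Finset.sum_insert hiI, pow_succ]
  simp

theorem altSum_congr (g : A → G) (s : Finset ι) (x y : ι → A) (h : ∀ k ∈ s, x k = y k) :
    altSum g s x = altSum g s y := by
  unfold altSum
  refine Finset.sum_congr rfl ?_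
  intro I hI
  congr 2
  exact Finset.sum_congr rfl fun k hk => h k (Finset.mem_powerset.1 hI hk)

theorem altSum_image [DecidableEq ι] (g : A → G) (s : Finset κ) (e : κ → ι)
    (he : Function.Injective e) (x : ι → A) :
    altSum g (s.image e) x = altSum g s (x ∘ e) := by
  classical
  unfold altSum
  rw [Finset.powerset_image, Finset.sum_image]
  · refine Finset.sum_congr rfl ?_
    intro I _
    rw [Finset.card_image_of_injective _ he, Finset.sum_image (fun a _ b _ h => he h)]
    rfl
  · intro a _ b _ h
    exact Finset.image_injective he h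

theorem sum_erase_empty_eq (f : A → G) (m : ℕ) (s : Finset ι) (x : ι → A) [DecidableEq ι] :
    ∑ I ∈ (s.powerset.erase ∅), ((-1 : ℤ) ^ (m + I.card)) • f (∑ i ∈ I, x i) =
      ((-1 : ℤ) ^ m) • (altSum f s x - f 0) := by
  have hmem : (∅ : Finset ι) ∈ s.powerset := Finset.empty_mem_powerset s
  have h1 : ∀ I : Finset ι, ((-1 : ℤ) ^ (m + I.card)) • f (∑ i ∈ I, x i) =
      ((-1 : ℤ) ^ m) • (((-1 : ℤ) ^ I.card) • f (∑ i ∈ I, x i)) := by
    intro I
    rw [pow_add, mul_smul]
  simp_rw [h1]
  rw [← Finset.smul_sum, Finset.sum_erase_eq_sub hmem]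
  simp [altSum]

theorem univ_fin_succ (n : ℕ) :
    (Finset.univ : Finset (Fin (n + 1))) = insert 0 ((Finset.univ : Finset (Fin n)).image Fin.succ) := by
  ext k
  simp only [Finset.mem_univ, Finset.mem_insert, Finset.mem_image, true_and, true_iff]
  rcases Fin.eq_zero_or_eq_succ k with h | ⟨j, h⟩
  · exact Or.inl h
  · exact Or.inr ⟨j, h.symm⟩

theorem zero_notMem_image_succ (n : ℕ) :
    (0 : Fin (n + 1)) ∉ (Finset.univ : Finset (Fin n)).image Fin.succ := by
  simp

/-- splitting off the coordinate `0` of a tuple indexed by `Fin (n+1)` -/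
theorem altSum_fin_succ (g : A → G) (n : ℕ) (x : Fin (n + 1) → A) :
    altSum g (Finset.univ : Finset (Fin (n + 1))) x =
      altSum g (Finset.univ : Finset (Fin n)) (fun k => x k.succ) -
        altSum (fun c => g (x 0 + c)) (Finset.univ : Finset (Fin n)) (fun k => x k.succ) := by
  rw [univ_fin_succ, altSum_insert g _ 0 (zero_notMem_image_succ n),
    altSum_image g _ Fin.succ (Fin.succ_injective n), altSum_image _ _ Fin.succ (Fin.succ_injective n)]
  rfl

/-- splitting off the coordinate `j` -/
theorem altSum_univ_split [DecidableEq ι] [Fintype ι] (g : A → G) (j : ι) (x : ι → A) :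
    altSum g (Finset.univ : Finset ι) x =
      altSum g (Finset.univ.erase j) x - altSum (fun c => g (x j + c)) (Finset.univ.erase j) x := by
  have h : (Finset.univ : Finset ι) = insert j (Finset.univ.erase j) := by
    rw [Finset.insert_erase (Finset.mem_univ j)]
  conv_lhs => rw [h]
  exact altSum_insert g _ j (Finset.notMem_erase j _) x

theorem altSum_update [DecidableEq ι] [Fintype ι] (g : A → G) (j : ι) (y : ι → A) (c : A) :
    altSum g (Finset.univ : Finset ι) (Function.update y j c) =
      altSum g (Finset.univ.erase j) y - altSum (fun d => g (c + d)) (Finset.univ.erase j) y := by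
  rw [altSum_univ_split g j]
  have h : ∀ k ∈ (Finset.univ.erase j : Finset ι), Function.update y j c k = y k := by
    intro k hk
    exact Function.update_of_ne (Finset.ne_of_mem_erase hk) _ _
  rw [altSum_congr g _ _ _ h, altSum_congr _ _ _ _ h]
  simp

end Groth.Agent.H71
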