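import Groth.Agent.H6.HartogsMod
import Groth.Agent.H8.MeroGen

/-!
# Transfer of restriction properties from `O_X` to invertible modules

If restriction `Γ(X, V) → Γ(X, V ⊓ U)` is injective (resp. bijective) for every open `V`, the same
holds for the sections of an invertible module.
-/

set_option autoImplicit false
universe u
open CategoryTheory CategoryTheory.Limits AlgebraicGeometry TopologicalSpace Opposite

namespace Groth.Agent.H71.InvRes

open Groth.Agent.H6.HartogsMod Groth.Agent.H8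

section Glue

variable (X : Scheme.{u}) (F : X.Modules) (P : X.Opens → Prop)
  (hP : ∀ V : X.Opens, V ≤ ⨆ W : {W : X.Opens // P W ∧ W ≤ V}, (W : X.Opens))

include hP in
theorem rF_ext' (V : X.Opens) (s t : Γ(F, V))
    (h : ∀ W : {W : X.Opens // P W ∧ W ≤ V}, rF X F W.2.2 s = rF X F W.2.2 t) : s = t :=
  (shAb X F).eq_of_locally_eq' (fun W : {W : X.Opens // P W ∧ W ≤ V} => (W : X.Opens)) V
    (fun W => homOfLE W.2.2) (hP V) s t h

variable (U : X.Opens)

include hP in
theorem rF_injective' (hinj : ∀ (W : X.Opens), P W →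
      Function.Injective (rF X F (inf_le_left : W ⊓ U ≤ W))) (V : X.Opens) :
    Function.Injective (rF X F (inf_le_left : V ⊓ U ≤ V)) := by
  intro s t hst
  apply rF_ext' X F P hP V
  rintro ⟨W, hW, hWV⟩
  apply hinj W hW
  rw [rF_rF, rF_rF]
  have h1 : W ⊓ U ≤ V ⊓ U := inf_le_inf_right U hWV
  rw [← rF_rF X F h1 inf_le_left s, ← rF_rF X F h1 inf_le_left t, hst]

include hP in
theorem rF_surjective' (haff : ∀ (W : X.Opens), P W →
      Function.Bijective (rF X F (inf_le_left : W ⊓ U ≤ W))) (V : X.Opens) :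
    Function.Surjective (rF X F (inf_le_left : V ⊓ U ≤ V)) := by
  intro t
  have hex : ∀ W : {W : X.Opens // P W ∧ W ≤ V}, ∃ s : Γ(F, W.1),
      rF X F (inf_le_left : W.1 ⊓ U ≤ W.1) s =
        rF X F (inf_le_inf_right U W.2.2 : W.1 ⊓ U ≤ V ⊓ U) t :=
    fun W => (haff W.1 W.2.1).2 _
  choose sf hsf using hex
  have hc : TopCat.Presheaf.IsCompatible (shAb X F).1
      (fun W : {W : X.Opens // P W ∧ W ≤ V} => (W : X.Opens)) sf := by
    intro W₁ W₂
    show rF X F (inf_le_left : W₁.1 ⊓ W₂.1 ≤ W₁.1) (sf W₁) =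
      rF X F (inf_le_right : W₁.1 ⊓ W₂.1 ≤ W₂.1) (sf W₂)
    apply rF_injective' X F P hP U (fun W hW => (haff W hW).1) (W₁.1 ⊓ W₂.1)
    rw [rF_rF, rF_rF]
    have e1 : W₁.1 ⊓ W₂.1 ⊓ U ≤ W₁.1 ⊓ U := inf_le_inf_right U inf_le_left
    have e2 : W₁.1 ⊓ W₂.1 ⊓ U ≤ W₂.1 ⊓ U := inf_le_inf_right U inf_le_right
    rw [← rF_rF X F e1 inf_le_left (sf W₁), ← rF_rF X F e2 inf_le_left (sf W₂), hsf, hsf,
      rF_rF, rF_rF]
  obtain ⟨s, hs, -⟩ := (shAb X F).existsUnique_gluing'
    (fun W : {W : X.Opens // P W ∧ W ≤ V} => (W : X.Opens)) V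
    (fun W => homOfLE W.2.2) (hP V) sf hc
  refine ⟨s, ?_⟩
  refine (shAb X F).eq_of_locally_eq'
    (fun W : {W : X.Opens // P W ∧ W ≤ V} => (W : X.Opens) ⊓ U) (V ⊓ U)
    (fun W => homOfLE (inf_le_inf_right U W.2.2)) ?_ _ _ ?_
  · rintro x ⟨hxV, hxU⟩
    obtain ⟨W, hxW⟩ := Opens.mem_iSup.mp (hP V hxV)
    exact Opens.mem_iSup.mpr ⟨W, hxW, hxU⟩
  · intro W
    show rF X F (inf_le_inf_right U W.2.2) (rF X F inf_le_left s) =
      rF X F (inf_le_inf_right U W.2.2) t
    rw [← hsf W, rF_rF, ← hs W]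
    show _ = rF X F inf_le_left (rF X F W.2.2 s)
    rw [rF_rF]

end Glue

section Invertible

variable {X : Scheme.{u}} (L : X.Modules)

/-- opens over which `L` has a free generator -/
def HasGen (W : X.Opens) : Prop := ∃ σ : Γ(L, W), IsFreeGen L W σ

theorem hasGen_cover (hL : PicF.IsInvertible L) (V : X.Opens) :
    V ≤ ⨆ W : {W : X.Opens // HasGen L W ∧ W ≤ V}, (W : X.Opens) := by
  intro x hx
  obtain ⟨U, hxU, σ, hσ⟩ := exists_isFreeGen_of_isInvertible hL x
  exact Opens.mem_iSup.mpr ⟨⟨U ⊓ V, ⟨_, hσ.res inf_le_left⟩, inf_le_right⟩, hxU, hx⟩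

theorem map_self (W : X.Opens) (σ : Γ(L, W)) :
    L.presheaf.map (homOfLE (le_refl W)).op σ = σ := by
  have : (homOfLE (le_refl W)).op = 𝟙 (op W) := rfl
  rw [this, L.presheaf.map_id]
  rfl

variable {L} (U : X.Opens)

theorem injective_of_gen {W : X.Opens} (hW : HasGen L W)
    (hO : Function.Injective (X.presheaf.map (homOfLE (inf_le_left : W ⊓ U ≤ W)).op)) :
    Function.Injective (rF X L (inf_le_left : W ⊓ U ≤ W)) := by
  obtain ⟨σ, hσ⟩ := hW
  intro s t hst
  obtain ⟨a, ha⟩ := hσ.exists_smul_eq (le_refl W) s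
  obtain ⟨b, hb⟩ := hσ.exists_smul_eq (le_refl W) t
  rw [map_self] at ha hb
  subst ha hb
  unfold rF at hst
  rw [Scheme.Modules.map_smul, Scheme.Modules.map_smul] at hst
  have := (hσ (W ⊓ U) inf_le_left).1 hst
  rw [hO this]

theorem bijective_of_gen {W : X.Opens} (hW : HasGen L W)
    (hO : Function.Bijective (X.presheaf.map (homOfLE (inf_le_left : W ⊓ U ≤ W)).op)) :
    Function.Bijective (rF X L (inf_le_left : W ⊓ U ≤ W)) := by
  refine ⟨injective_of_gen U hW hO.1, fun t => ?_⟩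
  obtain ⟨σ, hσ⟩ := hW
  obtain ⟨ρ, hρ⟩ := hσ.exists_smul_eq (inf_le_left : W ⊓ U ≤ W) t
  obtain ⟨a, ha⟩ := hO.2 ρ
  refine ⟨a • σ, ?_⟩
  unfold rF
  rw [Scheme.Modules.map_smul, ha, hρ]

variable (L)

/-- injectivity of restriction to `U` passes from functions to sections of an invertible module -/
theorem injective_res (hL : PicF.IsInvertible L)
    (hO : ∀ V : X.Opens, Function.Injective (X.presheaf.map (homOfLE (inf_le_left : V ⊓ U ≤ V)).op))
    (V : X.Opens) : Function.Injective (rF X L (inf_le_left : V ⊓ U ≤ V)) :=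
  rF_injective' X L (HasGen L) (hasGen_cover L hL) U
    (fun W hW => injective_of_gen U hW (hO W)) V

/-- bijectivity of restriction to `U` passes from functions to sections of an invertible module -/
theorem bijective_res (hL : PicF.IsInvertible L)
    (hO : ∀ V : X.Opens, Function.Bijective (X.presheaf.map (homOfLE (inf_le_left : V ⊓ U ≤ V)).op))
    (V : X.Opens) : Function.Bijective (rF X L (inf_le_left : V ⊓ U ≤ V)) :=
  ⟨injective_res L U hL (fun W => (hO W).1) V,
    rF_surjective' X L (HasGen L) (hasGen_cover L hL) U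
      (fun W hW => bijective_of_gen U hW (hO W)) V⟩

end Invertible

end Groth.Agent.H71.InvRes
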