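import Mathlib.FieldTheory.IsPerfectClosure
import Mathlib.RingTheory.IntegralClosure.IsIntegralClosure.Basic
import Mathlib.RingTheory.Flat.EquationalCriterion
import Mathlib.RingTheory.RingHom.Flat
import Mathlib.RingTheory.RingHom.FaithfullyFlat
import Mathlib.RingTheory.Ideal.GoingUp
import Mathlib.Tactic

set_option autoImplicit false
universe u

namespace Groth.Agent.H71

open Polynomial

/-- a `p`-radical ring map is integral -/
theorem isPRadical_isIntegral (p : ℕ) [Fact p.Prime] {A A' : Type*} [CommRing A] [CommRing A']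
    (i : A →+* A') [IsPRadical i p] : i.IsIntegral := by
  intro a'
  obtain ⟨n, a, ha⟩ := IsPRadical.pow_mem i p a'
  have hp : p ^ n ≠ 0 := pow_ne_zero _ (Fact.out : p.Prime).ne_zero
  refine ⟨X ^ (p ^ n) - C a, monic_X_pow_sub_C a hp, ?_⟩
  simp [ha]


/-- uniform exponent for finitely many elements -/
theorem isPRadical_exists_pow_lift (p : ℕ) [Fact p.Prime] {A A' : Type*} [CommRing A] [CommRing A']
    (i : A →+* A') [IsPRadical i p] {ι : Type*} [Finite ι] (x : ι → A') :
    ∃ N : ℕ, ∀ M : ℕ, N ≤ M → ∃ y : ι → A, ∀ k, i (y k) = x k ^ p ^ M := by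
  classical
  cases nonempty_fintype ι
  have h : ∀ k, ∃ (n : ℕ) (y : A), i y = x k ^ p ^ n := fun k => IsPRadical.pow_mem i p (x k)
  choose n y hy using h
  refine ⟨Finset.univ.sup n, fun M hM => ⟨fun k => y k ^ p ^ (M - n k), fun k => ?_⟩⟩
  have hk : n k ≤ M := (Finset.le_sup (Finset.mem_univ k)).trans hM
  rw [map_pow, hy, ← pow_mul, ← pow_add, Nat.add_sub_cancel' hk]

/-- The map induced on perfect closures by a flat map is flat. -/
theorem flat_of_perfectClosure (p : ℕ) [Fact p.Prime]
    {A B A' B' : Type u} [CommRing A] [CommRing B] [CommRing A'] [CommRing B']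
    [CharP A p] [CharP B p] [CharP A' p] [CharP B' p] [PerfectRing A' p] [PerfectRing B' p]
    (φ : A →+* B) (hflat : φ.Flat) (i : A →+* A') (j : B →+* B') [IsPerfectClosure i p] [IsPerfectClosure j p]
    (φ' : A' →+* B') (hφ : φ'.comp i = j.comp φ) : φ'.Flat := by
  classical
  let _ : Algebra A B := φ.toAlgebra
  let _ : Algebra A' B' := φ'.toAlgebra
  have hAB : Module.Flat A B := hflat
  change Module.Flat A' B'
  have hφ' : ∀ a, φ' (i a) = j (φ a) := fun a => by
    have := congrArg (fun g => g a) hφ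
    simpa using this
  have smulB : ∀ (a : A) (b : B), a • b = φ a * b := fun a b => rfl
  have smulB' : ∀ (a : A') (b : B'), a • b = φ' a * b := fun a b => rfl
  rw [Module.Flat.iff_forall_isTrivialRelation]
  intro l f' x' hrel
  simp only [smulB'] at hrel
  obtain ⟨N₁, h₁⟩ := isPRadical_exists_pow_lift p i f'
  obtain ⟨N₂, h₂⟩ := isPRadical_exists_pow_lift p j x'
  set N := max N₁ N₂ with hN
  obtain ⟨f, hf⟩ := h₁ N (le_max_left _ _)
  obtain ⟨x, hx⟩ := h₂ N (le_max_right _ _)
  -- the relation holds in B up to a nilpotent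
  have hc : j (∑ k, φ (f k) * x k) = 0 := by
    rw [map_sum]
    simp_rw [map_mul, ← hφ', hf, hx, map_pow, ← mul_pow]
    have := congrArg (iterateFrobenius B' p N) hrel
    rw [map_sum, map_zero] at this
    simpa [iterateFrobenius_def] using this
  have hker : (∑ k, φ (f k) * x k) ∈ RingHom.ker j := hc
  obtain ⟨M, hM⟩ := mem_pNilradical.mp (IsPRadical.ker_le j p hker)
  have hrelB : ∑ k, (f k ^ p ^ M) • (x k ^ p ^ M) = 0 := by
    simp_rw [smulB, map_pow, ← mul_pow]
    have := hM
    rw [← iterateFrobenius_def, map_sum] at this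
    simpa [iterateFrobenius_def] using this
  obtain ⟨K, a, y, hxy, hfa⟩ := Module.Flat.iff_forall_isTrivialRelation.mp hAB hrelB
  replace hxy : ∀ k, x k ^ p ^ M = ∑ m, a k m • y m := hxy
  replace hfa : ∀ m, ∑ k, f k ^ p ^ M * a k m = 0 := hfa
  set T := N + M with hT
  have hfT : ∀ k, i (f k ^ p ^ M) = f' k ^ p ^ T := fun k => by
    rw [map_pow, hf, ← pow_mul, ← pow_add]
  have hxT : ∀ k, j (x k ^ p ^ M) = x' k ^ p ^ T := fun k => by
    rw [map_pow, hx, ← pow_mul, ← pow_add]
  refine ⟨K, fun k m => (iterateFrobeniusEquiv A' p T).symm (i (a k m)),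
    fun m => (iterateFrobeniusEquiv B' p T).symm (j (y m)), ?_, ?_⟩
  · intro k
    dsimp only
    apply (iterateFrobeniusEquiv B' p T).injective
    rw [iterateFrobeniusEquiv_def, ← hxT, hxy k, map_sum, map_sum]
    refine Finset.sum_congr rfl fun m _ => ?_
    rw [smulB, smulB', map_mul, map_mul, RingEquiv.apply_symm_apply, ← hφ']
    congr 1
    rw [iterateFrobeniusEquiv_def, ← map_pow, ← iterateFrobeniusEquiv_def A' p T,
      RingEquiv.apply_symm_apply]
  · intro m
    dsimp only
    apply (iterateFrobeniusEquiv A' p T).injective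
    rw [map_sum, map_zero]
    simp_rw [map_mul, RingEquiv.apply_symm_apply, iterateFrobeniusEquiv_def, ← hfT, ← map_mul]
    rw [← map_sum, hfa m, map_zero]


theorem comap_injective_of_isPRadical (p : ℕ) [Fact p.Prime] {A A' : Type*} [CommRing A]
    [CommRing A'] (i : A →+* A') [IsPRadical i p] : Function.Injective (PrimeSpectrum.comap i) := by
  have key : ∀ P Q : PrimeSpectrum A', PrimeSpectrum.comap i P = PrimeSpectrum.comap i Q →
      P.asIdeal ≤ Q.asIdeal := by
    intro P Q h a ha
    obtain ⟨n, y, hy⟩ := IsPRadical.pow_mem i p a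
    have h1 : y ∈ (PrimeSpectrum.comap i P).asIdeal := by
      change i y ∈ P.asIdeal
      rw [hy]
      exact Ideal.pow_mem_of_mem _ ha _ (pow_pos (Fact.out : p.Prime).pos n)
    rw [h] at h1
    have h2 : i y ∈ Q.asIdeal := h1
    rw [hy] at h2
    exact Q.isPrime.mem_of_pow_mem _ h2
  intro P Q h
  exact PrimeSpectrum.ext (le_antisymm (key P Q h) (key Q P h.symm))

theorem comap_surjective_of_isPRadical (p : ℕ) [Fact p.Prime] {B B' : Type*} [CommRing B]
    [CommRing B'] (j : B →+* B') [IsPRadical j p] : Function.Surjective (PrimeSpectrum.comap j) := by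
  intro Q
  let _ : Algebra B B' := j.toAlgebra
  have hint : Algebra.IsIntegral B B' := ⟨isPRadical_isIntegral p j⟩
  have hker : (⊥ : Ideal B').comap (algebraMap B B') ≤ Q.asIdeal := by
    intro b hb
    have hb' : b ∈ RingHom.ker j := by
      rw [RingHom.mem_ker]
      have : algebraMap B B' b = 0 := by simpa using hb
      exact this
    have h1 := pNilradical_le_nilradical (IsPRadical.ker_le j p hb')
    exact (nilradical_le_prime Q.asIdeal) h1
  obtain ⟨Q', -, hQ'prime, hQ'⟩ := Ideal.exists_ideal_over_prime_of_isIntegral Q.asIdeal ⊥ hker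
  exact ⟨⟨Q', hQ'prime⟩, PrimeSpectrum.ext hQ'⟩

/-- The map induced on perfect closures by a faithfully flat map is faithfully flat. -/
theorem faithfullyFlat_of_perfectClosure (p : ℕ) [Fact p.Prime]
    {A B A' B' : Type u} [CommRing A] [CommRing B] [CommRing A'] [CommRing B']
    [CharP A p] [CharP B p] [CharP A' p] [CharP B' p] [PerfectRing A' p] [PerfectRing B' p]
    (φ : A →+* B) (hflat : φ.FaithfullyFlat) (i : A →+* A') (j : B →+* B') [IsPerfectClosure i p]
    [IsPerfectClosure j p] (φ' : A' →+* B') (hφ : φ'.comp i = j.comp φ) : φ'.FaithfullyFlat := by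
  rw [RingHom.FaithfullyFlat.iff_flat_and_comap_surjective] at hflat ⊢
  refine ⟨flat_of_perfectClosure p φ hflat.1 i j φ' hφ, ?_⟩
  intro P'
  obtain ⟨Q, hQ⟩ := hflat.2 (PrimeSpectrum.comap i P')
  obtain ⟨Q', hQ'⟩ := comap_surjective_of_isPRadical p j Q
  refine ⟨Q', ?_⟩
  apply comap_injective_of_isPRadical p i
  rw [← PrimeSpectrum.comap_comp_apply, hφ, PrimeSpectrum.comap_comp_apply, hQ', hQ]

end Groth.Agent.H71
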