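/-
Pushforward of modules along a (topologically) closed embedding preserves all small colimits and is
a left adjoint.  Route: reduce to abelian sheaves with helper60's `ModPushLA` (toSheaf preserves and
reflects colimits), then check on stalks: the stalk functors on abelian sheaves are left adjoints
(Mathlib skyscraper adjunction) and jointly reflect isomorphisms; `(g_* M)_{g z} ≅ M_z` naturally for
inducing `g` and `(g_* M)_x = 0` for `x` outside the closed image.
-/
import Groth.Agent.H60.ModPushLA

set_option autoImplicit false
universe v v' v'' u u' u'' w w'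
open CategoryTheory CategoryTheory.Limits TopologicalSpace Opposite

namespace Groth.Agent.H71.PushColim

/-- a functor preserves a colimit as soon as its composites with a jointly iso-reflecting family of
functors, each preserving the relevant colimit, do -/
theorem preservesColimit_of_family {C : Type u} [Category.{v} C] {D : Type u'} [Category.{v'} D]
    {ι : Type w} {E : ι → Type u''} [∀ i, Category.{v''} (E i)] (S : ∀ i, D ⥤ E i)
    (hS : ∀ {A B : D} (φ : A ⟶ B), (∀ i, IsIso ((S i).map φ)) → IsIso φ)
    (F : C ⥤ D) {J : Type w'} [Category J] (K : J ⥤ C) [HasColimit K] [HasColimit (K ⋙ F)]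
    [∀ i, HasColimit ((K ⋙ F) ⋙ S i)]
    [∀ i, PreservesColimit (K ⋙ F) (S i)] [∀ i, PreservesColimit K (F ⋙ S i)] :
    PreservesColimit K F := by
  haveI : IsIso (colimit.post K F) := by
    apply hS
    intro i
    haveI : HasColimit (K ⋙ F ⋙ S i) := inferInstanceAs (HasColimit ((K ⋙ F) ⋙ S i))
    have h := colimit.post_post K F (S i)
    haveI h1 : IsIso (colimit.post (K ⋙ F) (S i)) := inferInstance
    haveI h2 : IsIso (colimit.post K (F ⋙ S i)) := inferInstance
    have h3 : IsIso (colimit.post (K ⋙ F) (S i) ≫ (S i).map (colimit.post K F)) := by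
      rw [h]; exact h2
    exact IsIso.of_isIso_comp_left (colimit.post (K ⋙ F) (S i)) _
  exact preservesColimit_of_isIso_post (F := K) (G := F)

/-- a functor all of whose values are zero objects preserves colimits -/
theorem preservesColimit_of_isZero_obj {C : Type u} [Category.{v} C] {D : Type u'} [Category.{v'} D]
    [HasZeroMorphisms D] (G : C ⥤ D) (hG : ∀ A, IsZero (G.obj A)) {J : Type w'} [Category J]
    (K : J ⥤ C) : PreservesColimit K G where
  preserves {c} _ := ⟨{
    desc := fun s => 0
    fac := fun s j => (hG (K.obj j)).eq_of_src _ _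
    uniq := fun s m _ => (hG c.pt).eq_of_src _ _ }⟩

section Top

variable {Z X : TopCat.{u}} (g : Z ⟶ X)

/-- stalk of a sheaf of abelian groups, as a functor on sheaves -/
noncomputable abbrev stalkSh (X : TopCat.{u}) (x : X) : TopCat.Sheaf AddCommGrpCat.{u} X ⥤ AddCommGrpCat.{u} :=
  TopCat.Sheaf.forget AddCommGrpCat.{u} X ⋙ TopCat.Presheaf.stalkFunctor AddCommGrpCat.{u} x

/-- the stalk of `g_* M` at `g z` is the stalk of `M` at `z` when `g` is inducing -/
noncomputable def pushStalkIso (hg : Topology.IsInducing g) (z : Z) :
    TopCat.Sheaf.pushforward AddCommGrpCat.{u} g ⋙ stalkSh X (g z) ≅ stalkSh Z z :=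
  NatIso.ofComponents (fun M =>
    @asIso _ _ _ _ (TopCat.Presheaf.stalkPushforward AddCommGrpCat.{u} g M.1 z)
      (TopCat.Presheaf.stalkPushforward.stalkPushforward_iso_of_isInducing
        AddCommGrpCat.{u} hg M.1 z)) (by
    intro M N φ
    refine TopCat.Presheaf.stalk_hom_ext _ (fun U hU => ?_)
    dsimp [stalkSh]
    have h1 := TopCat.Presheaf.stalkFunctor_map_germ U (g z) hU
      ((TopCat.Sheaf.forget AddCommGrpCat.{u} X).map
        ((TopCat.Sheaf.pushforward AddCommGrpCat.{u} g).map φ))
    have h2 := TopCat.Presheaf.stalkPushforward_germ AddCommGrpCat.{u} g N.1 U z hU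
    have h3 := TopCat.Presheaf.stalkPushforward_germ AddCommGrpCat.{u} g M.1 U z hU
    have h4 := TopCat.Presheaf.stalkFunctor_map_germ ((Opens.map g).obj U) z hU
      ((TopCat.Sheaf.forget AddCommGrpCat.{u} Z).map φ)
    trans (φ.1.app (op ((Opens.map g).obj U)) ≫
      TopCat.Presheaf.germ N.1 ((Opens.map g).obj U) z hU)
    · rw [← Category.assoc]
      erw [h1]
      rw [Category.assoc]
      erw [h2]
      rfl
    · rw [← Category.assoc]
      erw [h3]
      exact h4.symm)

/-- the stalks of `g_* M` vanish outside the (closed) image of `g` -/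
theorem isZero_stalk_pushforward (hg : IsClosed (Set.range g)) (M : TopCat.Sheaf AddCommGrpCat.{u} Z)
    (x : X) (hx : x ∉ Set.range g) :
    IsZero ((TopCat.Sheaf.pushforward AddCommGrpCat.{u} g ⋙ stalkSh X x).obj M) := by
  let W : Opens X := ⟨(Set.range g)ᶜ, hg.isOpen_compl⟩
  have hxW : x ∈ W := hx
  let P : TopCat.Presheaf AddCommGrpCat.{u} X :=
    (TopCat.Presheaf.pushforward AddCommGrpCat.{u} g).obj M.1
  have hsub : ∀ V : Opens X, V ≤ W → Subsingleton (P.obj (op V)) := by
    intro V hV
    have hV' : (Opens.map g).obj V = ⊥ := by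
      ext z
      simp only [Opens.map_coe, Opens.coe_bot, Set.mem_empty_iff_false, iff_false]
      intro hz
      exact hV hz ⟨z, rfl⟩
    have hT : IsTerminal (M.1.obj (op ((Opens.map g).obj V))) := M.isTerminalOfEqEmpty hV'
    have hZ : IsZero (M.1.obj (op ((Opens.map g).obj V))) :=
      IsZero.of_iso (isZero_zero _) (hT.uniqueUpToIso (isZero_zero AddCommGrpCat.{u}).isTerminal)
    exact (AddCommGrpCat.subsingleton_of_isZero hZ :
      Subsingleton (M.1.obj (op ((Opens.map g).obj V))))
  have key : ∀ (U : Opens X) (hxU : x ∈ U) (s : P.obj (op U)), P.germ U x hxU s = 0 := by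
    intro U hxU s
    haveI := hsub (U ⊓ W) inf_le_right
    rw [← P.germ_res_apply (homOfLE inf_le_left) x ⟨hxU, hxW⟩ s,
      Subsingleton.elim (P.map (homOfLE (inf_le_left : U ⊓ W ≤ U)).op s) 0, map_zero]
  have hstalk : Subsingleton (P.stalk x) := by
    refine ⟨fun a b => ?_⟩
    obtain ⟨U, hxU, s, rfl⟩ := P.exists_germ_eq a
    obtain ⟨U', hxU', s', rfl⟩ := P.exists_germ_eq b
    rw [key, key]
  exact (@AddCommGrpCat.isZero_of_subsingleton (P.stalk x) hstalk :)

/-- the pushforward of abelian sheaves along a closed embedding preserves colimits -/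
theorem preservesColimits_pushforward_of_isClosedEmbedding (hg : Topology.IsClosedEmbedding g) :
    PreservesColimitsOfSize.{u, u} (TopCat.Sheaf.pushforward AddCommGrpCat.{u} g) := by
  refine ⟨fun {J} _ => ⟨fun {K} => ?_⟩⟩
  haveI h2 : ∀ x : X, PreservesColimit K
      (TopCat.Sheaf.pushforward AddCommGrpCat.{u} g ⋙ stalkSh X x) := by
    intro x
    by_cases hx : x ∈ Set.range g
    · obtain ⟨z, rfl⟩ := hx
      exact preservesColimit_of_natIso K (pushStalkIso g hg.isInducing z).symm
    · exact preservesColimit_of_isZero_obj _
        (fun M => isZero_stalk_pushforward g hg.isClosed_range M x hx) K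
  refine preservesColimit_of_family (fun x : X => stalkSh X x) ?_
    (TopCat.Sheaf.pushforward AddCommGrpCat.{u} g) K
  intro A B φ h
  haveI : ∀ x : X, IsIso ((TopCat.Presheaf.stalkFunctor AddCommGrpCat.{u} x).map φ.1) := h
  exact TopCat.Presheaf.isIso_of_stalkFunctor_map_iso φ

end Top

section Modules

variable {C : Type u} [SmallCategory C] {D : Type u} [SmallCategory D]
  (J : GrothendieckTopology C) (K : GrothendieckTopology D) (F : C ⥤ D)
  [F.IsContinuous J K]
  {S : Sheaf J RingCat.{u}} {R : Sheaf K RingCat.{u}}
  (φ : S ⟶ (F.sheafPushforwardContinuous RingCat.{u} J K).obj R)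

/-- variant of helper60's `preservesColimits_pushforward`: it suffices that the pushforward of
abelian sheaves preserves colimits -/
theorem preservesColimits_pushforward_of_ab
    (h2 : PreservesColimitsOfSize.{u, u} (F.sheafPushforwardContinuous AddCommGrpCat.{u} J K)) :
    PreservesColimitsOfSize.{u, u} (SheafOfModules.pushforward.{u} φ) := by
  have h1 := Groth.Agent.H31.toSheaf_preservesColimits R
  have h3 : PreservesColimitsOfSize.{u, u}
      (SheafOfModules.pushforward.{u} φ ⋙ SheafOfModules.toSheaf.{u} S) :=
    preservesColimits_of_natIso (Groth.Agent.H60.ModPushLA.pushforwardToSheafIso J K F φ).symm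
  have h4 := Groth.Agent.H60.ModPushLA.reflectsColimits_toSheaf J (S := S)
  exact preservesColimits_of_reflects_of_preserves _ (SheafOfModules.toSheaf.{u} S)

theorem isLeftAdjoint_pushforward_of_ab
    (h2 : PreservesColimitsOfSize.{u, u} (F.sheafPushforwardContinuous AddCommGrpCat.{u} J K)) :
    (SheafOfModules.pushforward.{u} φ).IsLeftAdjoint := by
  have := Groth.Agent.H33.SheafMod.isGrothendieckAbelian K R
  have := preservesColimits_pushforward_of_ab J K F φ h2
  have : WellPowered.{u} (SheafOfModules.{u} R) := IsGrothendieckAbelian.wellPowered _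
  have : WellPowered.{u} (SheafOfModules.{u} R)ᵒᵖ := Abelian.wellPowered_opposite
  exact isLeftAdjoint_of_preservesColimits_of_isSeparating
    (Groth.Agent.H33.SheafMod.isSeparating K R) _

end Modules

section Scheme

open AlgebraicGeometry

variable {Z X : Scheme.{u}} (i : Z ⟶ X)

/-- the pushforward of modules along a morphism which is topologically a closed embedding
preserves colimits -/
theorem preservesColimits_pushforward_scheme (hi : Topology.IsClosedEmbedding i.base) :
    PreservesColimitsOfSize.{u, u} (Scheme.Modules.pushforward i) :=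
  preservesColimits_pushforward_of_ab _ _ (Opens.map i.base) i.toRingCatSheafHom
    (preservesColimits_pushforward_of_isClosedEmbedding i.base hi)

/-- the pushforward of modules along a morphism which is topologically a closed embedding
is a left adjoint -/
theorem isLeftAdjoint_pushforward_scheme (hi : Topology.IsClosedEmbedding i.base) :
    (Scheme.Modules.pushforward i).IsLeftAdjoint :=
  isLeftAdjoint_pushforward_of_ab _ _ (Opens.map i.base) i.toRingCatSheafHom
    (preservesColimits_pushforward_of_isClosedEmbedding i.base hi)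

end Scheme

end Groth.Agent.H71.PushColim
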