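/-
Principal parts: the first projection from the n-th infinitesimal neighbourhood of the diagonal is a
homeomorphism, so p2^* followed by p1_* preserves colimits (via H71.PushColim).
-/
import Groth.Agent.H71.PushColim
import Groth.Prelude.Def_OmegaPn

set_option autoImplicit false
universe u
open CategoryTheory CategoryTheory.Limits AlgebraicGeometry TopologicalSpace Opposite

namespace Groth.Agent.H71.PushColim

variable {X S : Scheme.{u}} (f : X ⟶ S) (n : ℕ)

/-- the first projection from the infinitesimal neighbourhood of the diagonal is a homeomorphism,
in particular a closed embedding -/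
theorem isClosedEmbedding_pr1 : Topology.IsClosedEmbedding (PrinPart.pr1 f n).base := by
  have h1 : ∀ x, (PrinPart.pr1 f n).base ((PrinPart.toNbhd f n).base x) = x := fun x => by
    have h := congrArg (fun φ : X ⟶ X => φ.base x) (PrinPart.toNbhd_pr1 f n)
    exact h
  have hsurj := PrinPart.toInfNbhd_surjective (PrinPart.diagCl f) n
  have h2 : ∀ y, (PrinPart.toNbhd f n).base ((PrinPart.pr1 f n).base y) = y := by
    intro y
    obtain ⟨x, rfl⟩ := hsurj y
    exact congrArg _ (h1 x)
  let e : PrinPart.nbhd f n ≃ₜ X :=
    { toFun := (PrinPart.pr1 f n).base
      invFun := (PrinPart.toNbhd f n).base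
      left_inv := h2
      right_inv := h1
      continuous_toFun := (PrinPart.pr1 f n).continuous
      continuous_invFun := (PrinPart.toNbhd f n).continuous }
  exact e.isClosedEmbedding

theorem preservesColimits_pullback_pushforward_prinPart :
    PreservesColimitsOfSize.{u, u}
      ((Scheme.Modules.pullback (PrinPart.pr2 f n)) ⋙
        (Scheme.Modules.pushforward (PrinPart.pr1 f n))) := by
  haveI := preservesColimits_pushforward_scheme (PrinPart.pr1 f n) (isClosedEmbedding_pr1 f n)
  infer_instance

end Groth.Agent.H71.PushColim
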