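import Mathlib.AlgebraicGeometry.Morphisms.Separated
import Mathlib.AlgebraicGeometry.Morphisms.QuasiCompact
import Mathlib.AlgebraicGeometry.Morphisms.SchemeTheoreticallyDominant
import Mathlib.AlgebraicGeometry.Morphisms.ClosedImmersion
import Mathlib.Algebra.Regular.SMul
import Mathlib.RingTheory.Ideal.MinimalPrime.Localization
import Mathlib.Tactic

set_option autoImplicit false
universe u

namespace Groth.Agent.H71

open AlgebraicGeometry CategoryTheory CategoryTheory.Limits TopologicalSpace Opposite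

/-- If every point outside `U` has a regular element in its maximal ideal, a section over an
affine open `V` vanishing on an open `W ⊇ V ∩ U` is zero. -/
theorem section_eq_zero_of_res_eq_zero (X : Scheme.{u}) (U : X.Opens)
    (hZ : ∀ z : X, z ∉ U → ∃ a ∈ IsLocalRing.maximalIdeal (X.presheaf.stalk z),
      IsSMulRegular (X.presheaf.stalk z) a)
    (V : X.Opens) (hV : IsAffineOpen V) (W : X.Opens) (hWV : W ≤ V)
    (hW : ∀ z ∈ V, z ∈ U → z ∈ W) (a : Γ(X, V))
    (ha : X.presheaf.map (homOfLE hWV).op a = 0) : a = 0 := by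
  classical
  by_contra hne
  let I : Ideal Γ(X, V) := LinearMap.ker (LinearMap.toSpanSingleton Γ(X, V) Γ(X, V) a)
  have hI : ∀ r, r ∈ I ↔ r * a = 0 := by
    intro r
    simp [I, LinearMap.mem_ker, LinearMap.toSpanSingleton_apply]
  have hItop : I ≠ ⊤ := by
    intro h
    have h1 : (1 : Γ(X, V)) ∈ I := h ▸ Submodule.mem_top
    rw [hI, one_mul] at h1
    exact hne h1
  obtain ⟨q, hq⟩ := Ideal.nonempty_minimalPrimes hItop
  have hqprime : q.IsPrime := hq.1.1
  let y : PrimeSpectrum Γ(X, V) := ⟨q, hqprime⟩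
  have hyV : hV.fromSpec y ∈ V := by
    have := hV.range_fromSpec
    have h2 : hV.fromSpec y ∈ Set.range hV.fromSpec := ⟨y, rfl⟩
    rw [this] at h2
    exact h2
  set z := hV.fromSpec y with hz
  let := TopCat.Presheaf.algebra_section_stalk X.presheaf ⟨z, hyV⟩
  have hloc : IsLocalization.AtPrime (X.presheaf.stalk z) q := hV.isLocalization_stalk' y hyV
  have halg : ∀ r : Γ(X, V), algebraMap Γ(X, V) (X.presheaf.stalk z) r = X.presheaf.germ V z hyV r :=
    fun r => rfl
  have hgerm : algebraMap Γ(X, V) (X.presheaf.stalk z) a ≠ 0 := by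
    intro h0
    obtain ⟨s, hs⟩ := (IsLocalization.map_eq_zero_iff q.primeCompl (X.presheaf.stalk z) a).mp h0
    exact s.2 (hq.1.2 ((hI s).mpr hs))
  by_cases hzU : z ∈ U
  · apply hgerm
    have hzW : z ∈ W := hW z hyV hzU
    rw [halg, ← X.presheaf.germ_res_apply (homOfLE hWV) z hzW a, ha, map_zero]
  · obtain ⟨t, htm, htreg⟩ := hZ z hzU
    have hrad := IsLocalization.AtPrime.radical_map_of_mem_minimalPrimes
      (A := X.presheaf.stalk z) q I hq
    have htrad : t ∈ (I.map (algebraMap Γ(X, V) (X.presheaf.stalk z))).radical := by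
      rw [hrad, IsLocalization.AtPrime.map_eq_maximalIdeal]
      exact htm
    obtain ⟨k, hk⟩ := htrad
    have hkill : ∀ w ∈ I.map (algebraMap Γ(X, V) (X.presheaf.stalk z)),
        w * algebraMap Γ(X, V) (X.presheaf.stalk z) a = 0 := by
      intro w hw
      refine Submodule.span_induction ?_ ?_ ?_ ?_ hw
      · rintro _ ⟨r, hr, rfl⟩
        rw [← map_mul, (hI r).mp hr, map_zero]
      · simp
      · intro x y _ _ hx hy
        rw [add_mul, hx, hy, add_zero]
      · intro c x _ hx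
        rw [smul_eq_mul, mul_assoc, hx, mul_zero]
    have h1 := hkill _ hk
    exact hgerm ((htreg.pow k).right_eq_zero_of_smul h1)

/-- Under the hypothesis of `section_eq_zero_of_res_eq_zero`, the inclusion of `U` has trivial
kernel. -/
theorem ker_ι_eq_bot (X : Scheme.{u}) (U : X.Opens) [QuasiCompact U.ι]
    (hZ : ∀ z : X, z ∉ U → ∃ a ∈ IsLocalRing.maximalIdeal (X.presheaf.stalk z),
      IsSMulRegular (X.presheaf.stalk z) a) : U.ι.ker = ⊥ := by
  ext V : 2
  rw [Scheme.Hom.ker_apply]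
  simp only [Scheme.IdealSheafData.ideal_bot, Pi.bot_apply]
  rw [eq_bot_iff]
  intro a ha
  rw [RingHom.mem_ker, Scheme.Opens.ι_app] at ha
  rw [Ideal.mem_bot]
  refine section_eq_zero_of_res_eq_zero X U hZ V.1 V.2 (U.ι ''ᵁ U.ι ⁻¹ᵁ V.1)
    (Set.image_preimage_subset _ _) ?_ a ha
  intro z hzV hzU
  exact ⟨⟨z, hzU⟩, hzV, rfl⟩

/-- Two sections of a separated morphism agreeing on a scheme-theoretically dense open agree. -/
theorem sections_ext (X : Scheme.{u}) (U : X.Opens) (hker : U.ι.ker = ⊥)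
    (Y : Scheme.{u}) (f : Y ⟶ X) [IsSeparated f] (s₁ s₂ : X ⟶ Y) (h₁ : s₁ ≫ f = 𝟙 X)
    (h₂ : s₂ ≫ f = 𝟙 X) (hU : U.ι ≫ s₁ = U.ι ≫ s₂) : s₁ = s₂ := by
  let X' : Over X := Over.mk (s₁ ≫ f)
  let Y' : Over X := Over.mk f
  let U' : Over X := Over.mk (U.ι ≫ s₁ ≫ f)
  let f' : X' ⟶ Y' := Over.homMk s₁
  let g' : X' ⟶ Y' := Over.homMk s₂ (by simp [X', Y', h₁, h₂])
  let ι' : U' ⟶ X' := Over.homMk U.ι
  have : IsSeparated Y'.hom := ‹_›
  have hlift : ι' ≫ f' = ι' ≫ g' := by ext1; exact hU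
  have hfac : (equalizer.lift ι' hlift).left ≫ (equalizer.ι f' g').left = U.ι := by
    rw [← Over.comp_left, equalizer.lift_ι]
    rfl
  have hle := Scheme.Hom.le_ker_comp (equalizer.lift ι' hlift).left (equalizer.ι f' g').left
  rw [hfac, hker, le_bot_iff] at hle
  have : IsIso (equalizer.ι f' g').left := IsClosedImmersion.isIso_iff_ker_eq_bot.mpr hle
  rw [← cancel_epi (equalizer.ι f' g').left]
  exact congr($(equalizer.condition f' g').left)

end Groth.Agent.H71
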