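import Groth.Prelude.Def_CInt
import Groth.Prelude.Def_Pic
import Groth.Agent.H71.InvRes
import Groth.Agent.H71.DepthFlat
import Groth.Agent.H19.SchDense
import Groth.Agent.H6.Hartogs

set_option autoImplicit false
universe u
open CategoryTheory CategoryTheory.Limits AlgebraicGeometry

namespace Groth.Agent.H71.SmoothInvRes

theorem main {S A : Scheme.{u}} [IsLocallyNoetherian S]
    (f : A ⟶ S) [Smooth f] (L : A.Modules) (hL : PicF.IsInvertible L) (V : S.Opens) :
    (CInt.IsSchematicallyDense V →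
      ∀ W : S.Opens, Function.Injective (L.val.map (homOfLE (inf_le_left : f ⁻¹ᵁ W ⊓ f ⁻¹ᵁ V ≤ f ⁻¹ᵁ W)).op)) ∧
    ((∀ x : S, x ∉ V → 2 ≤ LocCoh.depth (S.presheaf.stalk x) (S.presheaf.stalk x)) →
      ∀ W : S.Opens, Function.Bijective (L.val.map (homOfLE (inf_le_left : f ⁻¹ᵁ W ⊓ f ⁻¹ᵁ V ≤ f ⁻¹ᵁ W)).op)) := by
  haveI : Flat f := inferInstance
  haveI : LocallyOfFiniteType f := inferInstance
  haveI : IsLocallyNoetherian A := LocallyOfFiniteType.isLocallyNoetherian f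
  constructor
  · intro hV W
    have hd := Groth.Agent.H19.isSchematicallyDense_preimage_of_flat f V hV
    exact Groth.Agent.H71.InvRes.injective_res L (f ⁻¹ᵁ V) hL hd (f ⁻¹ᵁ W)
  · intro hdepth W
    have hdepth' : ∀ x : A, x ∉ f ⁻¹ᵁ V →
        (2 : ℕ∞) ≤ LocCoh.depth (A.presheaf.stalk x) (A.presheaf.stalk x) := by
      intro x hx
      exact Groth.Agent.H71.DepthFlat.two_le_depth_of_flat (f.stalkMap x).hom
        (Flat.stalkMap f x) (hdepth (f x) hx)
    have hO : ∀ V' : A.Opens, Function.Bijective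
        (A.presheaf.map (homOfLE (inf_le_left : V' ⊓ f ⁻¹ᵁ V ≤ V')).op) :=
      fun V' => Groth.Agent.H6.Hartogs.bijective_res A (f ⁻¹ᵁ V) hdepth' V' _ rfl inf_le_left
    exact Groth.Agent.H71.InvRes.bijective_res L (f ⁻¹ᵁ V) hL hO (f ⁻¹ᵁ W)

end Groth.Agent.H71.SmoothInvRes
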