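import Groth.Agent.H20.ComapMul
import Groth.Prelude.Def_Omega3
import Groth.Prelude.Def_MoreMor

/-!
helper71: the closed subscheme `V(I²)` is a universal first order thickening of `V(I)`.
-/

set_option autoImplicit false
universe u
open CategoryTheory CategoryTheory.Limits AlgebraicGeometry

namespace Groth.Agent.H71.UnivThick

open Scheme.IdealSheafData

variable {Y : Scheme.{u}} {I J : Y.IdealSheafData} (h : I ≤ J)

instance isClosedImmersion_inclusion : IsClosedImmersion (inclusion h) := by
  haveI : IsClosedImmersion (inclusion h ≫ I.subschemeι) := by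
    rw [inclusion_subschemeι]; infer_instance
  exact IsClosedImmersion.of_comp (inclusion h) I.subschemeι

theorem ker_inclusion : (inclusion h).ker = J.comap I.subschemeι := by
  let l : J.subscheme ⟶ pullback I.subschemeι J.subschemeι :=
    pullback.lift (inclusion h) (𝟙 _) (by rw [inclusion_subschemeι, Category.id_comp])
  haveI : IsIso l := by
    refine ⟨pullback.snd _ _, pullback.lift_snd _ _ _, ?_⟩
    apply pullback.hom_ext
    · rw [Category.assoc, pullback.lift_fst, Category.id_comp,
        ← cancel_mono I.subschemeι, Category.assoc, inclusion_subschemeι, pullback.condition]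
    · rw [Category.assoc, pullback.lift_snd, Category.id_comp, Category.comp_id]
  have h1 : inclusion h = l ≫ pullback.fst I.subschemeι J.subschemeι :=
    (pullback.lift_fst _ _ _).symm
  rw [h1, Scheme.Hom.ker_comp_of_isIso]
  rfl

theorem comap_subschemeι_self (K : Y.IdealSheafData) : K.comap K.subschemeι = ⊥ := by
  rw [← le_bot_iff, ← le_map_iff_comap_le, map_bot, ker_subschemeι]

theorem ker_inclusion_mul (hIJ : I = J * J) : (inclusion h).ker * (inclusion h).ker = ⊥ := by
  rw [ker_inclusion, ← Groth.Agent.H20.comap_mul, ← hIJ, comap_subschemeι_self]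

theorem surjective_inclusion (hs : I.support = J.support) : Surjective (inclusion h) := by
  constructor
  intro z'
  have hz : I.subschemeι z' ∈ Set.range J.subschemeι := by
    rw [range_subschemeι, ← hs, ← range_subschemeι]
    exact ⟨z', rfl⟩
  obtain ⟨z, hz⟩ := hz
  refine ⟨z, ?_⟩
  apply I.subschemeι.isEmbedding.injective
  rw [← hz, ← Scheme.Hom.comp_apply, inclusion_subschemeι]

theorem isFirstOrderThickening_inclusion (hIJ : I = J * J) :
    MoreMor.IsFirstOrderThickening (inclusion h) := by
  refine ⟨⟨inferInstance, surjective_inclusion h ?_⟩, ker_inclusion_mul h hIJ⟩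
  rw [hIJ, support_mul, sup_idem]

/-- `V(J²) ⟶ U ⟶ X` is a universal first order thickening of `V(J) ⟶ U ⟶ X`. -/
theorem isUnivThickening {X : Scheme.{u}} (U : X.Opens) (J : (U : Scheme.{u}).IdealSheafData)
    (h : J ^ 2 ≤ J) :
    OmegaSh.IsUnivThickening (J.subschemeι ≫ U.ι) (inclusion h) ((J ^ 2).subschemeι ≫ U.ι) := by
  refine ⟨isFirstOrderThickening_inclusion h (sq J), ?_, ?_⟩
  · rw [← Category.assoc, inclusion_subschemeι]
  · intro T T' j b a hj hjb
    obtain ⟨⟨hjc, hjs⟩, hjk⟩ := hj
    -- `b` factors through `U`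
    have hrange : Set.range b ⊆ Set.range U.ι := by
      rintro _ ⟨t', rfl⟩
      obtain ⟨t, rfl⟩ := hjs.surj t'
      rw [← Scheme.Hom.comp_apply, hjb, Scheme.Hom.comp_apply]
      exact ⟨_, rfl⟩
    let b' : T' ⟶ (U : Scheme.{u}) := IsOpenImmersion.lift U.ι b hrange
    have hb' : b' ≫ U.ι = b := IsOpenImmersion.lift_fac _ _ _
    have hjb' : j ≫ b' = a ≫ J.subschemeι := by
      rw [← cancel_mono U.ι, Category.assoc, hb', hjb, Category.assoc]
    -- `J² ≤ ker b'`
    have h1 : J ≤ (j.ker).map b' := by
      rw [map_ker, hjb']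
      conv_lhs => rw [← J.ker_subschemeι]
      exact Scheme.Hom.le_ker_comp _ _
    have h2 : J.comap b' ≤ j.ker := le_map_iff_comap_le.1 h1
    have h3 : (J ^ 2).comap b' ≤ ⊥ := by
      rw [sq, Groth.Agent.H20.comap_mul, ← hjk]
      exact mul_le_mul h2 h2 bot_le bot_le
    have h4 : ((J ^ 2).subschemeι).ker ≤ b'.ker := by
      rw [ker_subschemeι, ← map_bot]
      exact le_map_iff_comap_le.2 h3
    let a' : T' ⟶ (J ^ 2).subscheme := IsClosedImmersion.lift (J ^ 2).subschemeι b' h4
    have ha' : a' ≫ (J ^ 2).subschemeι = b' := IsClosedImmersion.lift_fac _ _ _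
    refine ⟨a', ⟨?_, ?_⟩, ?_⟩
    · rw [← cancel_mono (J ^ 2).subschemeι, Category.assoc, ha', hjb', Category.assoc,
        inclusion_subschemeι]
    · rw [← Category.assoc, ha', hb']
    · rintro a'' ⟨-, h2''⟩
      rw [← cancel_mono ((J ^ 2).subschemeι ≫ U.ι), h2'', ← Category.assoc, ha', hb']

end Groth.Agent.H71.UnivThick
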